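import Cfsg.Agent.TwoF.SpB.Core
import Cfsg.Agent.TAB.J4.Ty
import Cfsg.Agent.S2042
import Cfsg.Agent.S2068

/-!
# TwoF SP-D: the row of `J4` (helper55)
-/

set_option autoImplicit false
set_option maxHeartbeats 400000

namespace Cfsg.Agent.TwoF.SpD.J4

open Cfsg Subgroup Module Cfsg.Agent.TwoF.Gen Cfsg.Agent.TAB.J4
open Cfsg.Agent.H859 Cfsg.Agent.H860 Cfsg.Agent.H860.PairGroup
open scoped commutatorElement

section

variable {k : Type*} [Field k] {Y : Type*} [Group Y] {V : Type*} [AddCommGroup V] [Module k V]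
  {ρ : Representation k Y V}

theorem cod_isConj {a b : Y} (h : IsConj a b) : cod ρ (zpowers a) = cod ρ (zpowers b) := by
  obtain ⟨c, rfl⟩ := isConj_iff.1 h
  exact (cod_zpowers_conj c a).symm

theorem rho_ne (hf : Function.Injective ρ) {a : Y} (h : a ≠ 1) : ρ a ≠ 1 := fun e => h (hf (e.trans (map_one ρ).symm))

theorem comm_mem {p : ℕ} [Fact p.Prime] {a b w : Y} (h : Heis.Rel p a b w) [Finite Y] :
    ∀ x ∈ Heis.gp h, ∀ y ∈ Heis.gp h, ⁅x, y⁆ ∈ zpowers w := by
  rintro _ ⟨i, j, l, rfl⟩ _ ⟨i', j', l', rfl⟩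
  have h1 : ∀ n, Commute (a ^ (i + i') * b ^ (j + j')) (w ^ n) := fun n =>
    ((show Commute a w from h.aw).pow_pow _ _).mul_left ((show Commute b w from h.bw).pow_pow _ _)
  rw [commutatorElement_def, mul_assoc (_ * _), ← mul_inv_rev, h.mul, h.mul, add_comm i' i, add_comm j' j, (h1 _).eq,
    (h1 _).eq, mul_inv_rev, mul_assoc, mul_inv_cancel_left]
  exact mul_mem (pow_mem (mem_zpowers w) _) (inv_mem (pow_mem (mem_zpowers w) _))

theorem ord_le [Finite k] [Finite V] (hf : Function.Injective ρ) {s n q : ℕ} [Fact s.Prime] (hq : Nat.card k = q)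
    (hs : ¬ s ∣ q) (hn : ∀ d < n, 0 < d → q ^ d % s ≠ 1 % s) {x : Y} (hx : orderOf x = s) : n ≤ cod ρ (zpowers x) :=
  le_cod_of_order hf (s := s) (hq ▸ hs) (fun d h1 h2 => hq ▸ hn d h2 h1)
    (IsPGroup.of_card (n := 1) (by rw [Nat.card_zpowers, hx, pow_one]))
    (by rw [Ne, zpowers_eq_bot, ← orderOf_eq_one_iff, hx]; exact (Fact.out : s.Prime).ne_one)

end

variable {p : ℕ} [Fact p.Prime] {V : Type} [AddCommGroup V] [Module (ZMod p) V]
  {ρ : Representation (ZMod p) Spor.J4 V}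

theorem card_le {A : Subgroup Spor.J4} (hA : Off p ρ A) {e : ℕ} (he : ¬ p ^ (e + 1) ∣ 86775571046077562880) :
    cod ρ A ≤ 2 * e := by
  obtain ⟨r, -, h1, h2⟩ := hA.exists_card
  refine h2.trans (Nat.mul_le_mul_left _ (not_lt.1 fun h => he ?_))
  rw [← card_J4]
  exact (pow_dvd_pow p h).trans (h1 ▸ card_subgroup_dvd_card A)

theorem exists_elt {A : Subgroup Spor.J4} (hA : Off p ρ A) : ∃ a ∈ A, orderOf a = p := by
  obtain ⟨⟨a, ha⟩, h⟩ := ne_bot_iff_exists_ne_one.1 hA.2.1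
  exact ⟨a, ha, orderOf_eq_prime (hA.1.2 a ha) fun e => h (Subtype.ext e)⟩

/-! ### `p = 2` -/

section

variable {V : Type} [AddCommGroup V] [Module (ZMod 2) V] [Finite V] {ρ : Representation (ZMod 2) Spor.J4 V}

theorem cod_c (hf : Function.Injective ρ) : 110 ≤ cod ρ (zpowers NU.c) := by
  have h := heis (ρ := ρ) (Q := NU.U) (z := NU.c) (r := 11) (by norm_num) NU.rel.wp (by decide) (rho_ne hf NU.rel.w1)
    (fun q hq => (Heis.w_comm NU.rel hq).symm) (comm_mem NU.rel) (zpowers NU.c)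
    (fun t ht h => by_contra fun h1 => h (Heis.center_le NU.rel ht fun x hx => by_contra fun h2 => h1 ⟨x, hx, h2⟩))
    (m := 11) (by
      have h := ((zpowers NU.c).subgroupOf NU.U).card_mul_index
      rw [Nat.card_congr (subgroupOfEquivOfLe SylEleven.zpowers_le_U).toEquiv, Nat.card_zpowers, ord_c, NU.card_U] at h
      rw [relIndex]
      omega)
  have h1 : orderOf ((Fintype.card (ZMod 2) : ℕ) : ZMod 11) = 10 := by
    rw [ZMod.card]
    exact (orderOf_eq_iff (by norm_num)).2 (by decide)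
  rwa [h1] at h

theorem cod_11 (hf : Function.Injective ρ) {y : Spor.J4} (hy : orderOf y = 11) : 100 ≤ cod ρ (zpowers y) := by
  rcases ClassEleven.isConj_or hy with h | h
  · rw [cod_isConj h]
    obtain ⟨q, hq, h1⟩ : ∃ q ∈ NU.U, SylEleven.x * q ≠ q * SylEleven.x := by_contra fun h1 =>
      SylEleven.x_notMem (Heis.center_le NU.rel SylEleven.x_mem fun x hx => by_contra fun h2 => h1 ⟨x, hx, h2⟩)
    have h2 := comm_mem NU.rel q hq _ SylEleven.x_mem
    have h3 : ∀ u ∈ NU.U, u * ⁅q, SylEleven.x⁆ = ⁅q, SylEleven.x⁆ * u := fun u hu =>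
      (mem_centralizer_singleton_iff.1 (SylEleven.U_le_centralizer h2 hu))
    have h4 := heis_noncentral (ρ := ρ) SylEleven.isPGroup_U (by decide) SylEleven.x_mem hq (h3 q hq)
      (h3 _ SylEleven.x_mem)
    rw [cod_isConj (ClassEleven.isConj_c h2 fun e => h1 (commutatorElement_eq_one_iff_mul_comm.1 e).symm)] at h4
    have := cod_c hf
    omega
  · rw [cod_isConj h]
    exact (by norm_num : 100 ≤ 110).trans (cod_c hf)

theorem inv_t {v : ℕ} (h : cjB (v, 623462498632562154221793043834028406) (0, mP 15) (Tab.pw (0, mP 15) 10) = true) :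
    E (v, 623462498632562154221793043834028406) * R 18 * (E (v, 623462498632562154221793043834028406))⁻¹ =
      (R 18)⁻¹ := by
  have h1 := cj_of h
  rw [E_pw (a := (0, mP 15)) (ok_mP 15), ← R_18] at h1
  rw [h1, eq_inv_iff_mul_eq_one, ← pow_succ]
  exact orderOf_dvd_iff_pow_eq_one.1 (rp (t := 18) (by norm_num)).ord.dvd

theorem cod_two (hf : Function.Injective ρ) {a : Spor.J4} (ha : orderOf a = 2) : 50 ≤ cod ρ (zpowers a) := by
  have h0 : orderOf (R 18) = 11 := (rp (t := 18) (by norm_num)).ord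
  have h1 := cod_11 hf h0
  obtain ⟨i, hi, h⟩ := cover2 (g := a) (n := 1) (by rw [pow_one, ← ha, pow_orderOf_eq_one])
  have h2 := (ord_Q hi).symm.trans ((ord_conj h).trans ha)
  rw [← cod_isConj h]
  rcases (by decide : ∀ i < 10, [1, 2, 2, 4, 4, 4, 8, 8, 8, 16].getD i 0 = 2 → i = 1 ∨ i = 2) i hi h2 with rfl | rfl
  · have h3 := cod_le_of_inverts (ρ := ρ) (by rw [h0]; decide) (inv_t (v := 707) (by decide +kernel))
    rw [cod_isConj (two_of (a := (707, 623462498632562154221793043834028406))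
      (c := 926358707141998417591264146089543776) (j := 2) (by decide +kernel))]
    omega
  · have h3 := cod_le_of_inverts (ρ := ρ) (by rw [h0]; decide) (inv_t (v := 0) (by decide +kernel))
    rw [cod_isConj (two_of (a := (0, 623462498632562154221793043834028406))
      (c := 926358707141998417591264146089543776) (j := 2) (by decide +kernel))]
    omega

end

theorem core2 : SpB.Core 2 Spor.J4 := fun V _ _ _ ρ hf _ A hA => by
  obtain ⟨a, h1, h2⟩ := exists_elt hA
  have h3 := card_le hA (e := 21) (by norm_num)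
  have h4 := cod_two hf h2
  have h5 := cod_mono (ρ := ρ) (zpowers_le.2 h1)
  omega

/-! ### `p = 3` -/

theorem core3 : SpB.Core 3 Spor.J4 := fun V _ _ _ ρ hf _ A hA => by
  have : Fact (Nat.Prime 37) := ⟨by norm_num⟩
  obtain ⟨a, h1, h2⟩ := exists_elt hA
  have h3 := card_le hA (e := 3) (by norm_num)
  have h5 := cod_mono (ρ := ρ) (zpowers_le.2 h1)
  obtain ⟨h6, h7⟩ := BigNum.data37 (P := zpowers x37) (by rw [Nat.card_zpowers, ord37])
  obtain ⟨b, hb⟩ := exists_prime_orderOf_dvd_card' (G := normalizer (zpowers x37 : Set Spor.J4)) 3 (by rw [h7]; norm_num)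
  rw [← orderOf_coe] at hb
  have h8 := frobenius_bound_elt (ρ := ρ) (by norm_num) ord37 (by decide) hb b.2 fun e => by
    have h := dvd_cc (x := x37) (y := b) e
    rw [hb, ← cc_zpowers, h6] at h
    norm_num at h
  have h9 : 18 ≤ cod ρ (zpowers x37) := ord_le hf (Nat.card_zmod 3) (by norm_num) (by decide) ord37
  rw [cod_isConj ((conj3 hb).trans (conj3 h2).symm)] at h8
  omega

/-! ### `p = 11` -/

theorem core11 [Fact (Nat.Prime 11)] : SpB.Core 11 Spor.J4 := fun V _ _ _ ρ hf _ A hA => by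
  have : Fact (Nat.Prime 23) := ⟨by norm_num⟩
  refine ⟨A, hA, by_contra fun hc => ?_⟩
  have h1 : 11 ^ 2 ∣ Nat.card A := hA.pow_dvd_of_not_cub hc
  obtain ⟨Q, hQ⟩ := (elemAb_isPGroup hA.1).exists_le_sylow
  obtain ⟨g, hg⟩ := MulAction.exists_smul_eq Spor.J4 Q (SylEleven.isPGroup_U.toSylow SylEleven.not_dvd_U)
  have h2 : A.map (MulAut.conj g).toMonoidHom ≤ NU.U := by
    rintro _ ⟨a, ha, rfl⟩
    have h : _ ∈ ((g • Q : Sylow 11 Spor.J4) : Subgroup Spor.J4) := smul_mem_pointwise_smul a (MulAut.conj g) _ (hQ ha)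
    rwa [hg] at h
  have h3 := card_le (hA.conj g) (e := 3) (by norm_num)
  obtain ⟨y, h4, h5⟩ : ∃ y ∈ A.map (MulAut.conj g).toMonoidHom, y ∉ zpowers NU.c := by_contra fun h => by
    have h4 := card_le_of_le (show A.map (MulAut.conj g).toMonoidHom ≤ zpowers NU.c from
      fun y hy => by_contra fun h5 => h ⟨y, hy, h5⟩)
    rw [card_map_conj, Nat.card_zpowers, ord_c] at h4
    exact absurd ((Nat.le_of_dvd Nat.card_pos h1).trans h4) (by norm_num)
  obtain ⟨n, -, h6⟩ : y ∈ SylEleven.orb SylEleven.N SylEleven.x := SylEleven.orb_eq ▸ ⟨h2 h4, h5⟩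
  obtain ⟨s, hs⟩ := ex_is SylEleven.x
  obtain rfl := (by decide +kernel : ∀ s < 44, tO s = 11 → tC s = 242 → s = 18) s hs.lt
    (hs.ord.symm.trans ClassEleven.orderOf_x) (hs.cen.symm.trans SylEleven.card_centralizer_x_eq)
  have h7 : orderOf (E (0, 184550418723165853173467277237337674)) = 23 :=
    ord_of (ps := [23]) (by decide +kernel) (by norm_num) fun q h7 h8 =>
      List.mem_singleton.2 ((Nat.prime_dvd_prime_iff_eq h7 Fact.out).1 h8)
  have h8 := cj_of (c := (0, mP 15)) (a := (0, 184550418723165853173467277237337674))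
    (b := Tab.pw (0, 184550418723165853173467277237337674) 2) (by decide +kernel)
  rw [E_pw (by decide +kernel), ← R_18] at h8
  have h9 := frobenius_bound_elt (ρ := ρ) (a := R 18) (p := 11) Fact.out h7
    (by rw [Ne, ZMod.natCast_eq_zero_iff]; norm_num) (rp (by norm_num)).ord
    (mem_normalizer_fintype fun _ ⟨m, hm⟩ => by
      rw [← hm, ← conj_zpow, h8]
      exact zpow_mem (pow_mem (mem_zpowers _) 2) m) fun e => by
    rw [e, mul_inv_cancel_right, pow_two, left_eq_mul, ← orderOf_eq_one_iff, h7] at h8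
    norm_num at h8
  have h10 : 22 ≤ cod ρ (zpowers _) := ord_le hf (Nat.card_zmod 11) (by norm_num) (by decide) h7
  have h11 := cod_mono (ρ := ρ) (zpowers_le.2 h4)
  rw [cod_isConj ((hs.one rfl).trans (isConj_iff.2 ⟨n, h6.symm⟩))] at h9
  omega

theorem row (p : ℕ) [hp : Fact p.Prime] : Row p Spor.J4 := by
  refine SpB.row_of_core S2068.result S2042.result (fun d h _ => Nat.dvd_one.1 h) ?_
  by_cases h2 : p = 2
  · subst h2; exact core2
  by_cases h3 : p = 3
  · subst h3; exact core3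
  by_cases h11 : p = 11
  · subst h11; exact core11
  intro V _ _ _ ρ _ _ A hA
  refine ⟨A, hA, by_contra fun hc => ?_⟩
  have h1 := (hA.pow_dvd_of_not_cub hc).trans (card_subgroup_dvd_card A)
  rw [small_of_ne h2 h3, card_J4, show 86775571046077562880 = 2 ^ 21 * 3 ^ 3 * 11 ^ 3 * (5 * 7 * 23 * 29 * 31 * 37 * 43)
    by norm_num] at h1
  have h4 : ∀ {q : ℕ}, q.Prime → p ≠ q → ∀ n, Nat.Coprime (p ^ (1 + 1)) (q ^ n) := fun hq h n =>
    ((Nat.coprime_primes hp.out hq).2 h).pow _ _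
  have h5 := (((h4 Nat.prime_two h2 21).mul_right (h4 Nat.prime_three h3 3)).mul_right
    (h4 (by norm_num) h11 3)).dvd_of_dvd_mul_left h1
  have h6 : Squarefree (5 * 7 * 23 * 29 * 31 * 37 * 43) := by
    simp only [Nat.squarefree_mul_iff]
    refine ⟨by norm_num, ⟨by norm_num, ⟨by norm_num, ⟨by norm_num, ⟨by norm_num, ⟨by norm_num, ?_, ?_⟩, ?_⟩, ?_⟩, ?_⟩,
      ?_⟩, ?_⟩ <;> exact (Nat.Prime.prime (by norm_num)).squarefree
  exact hp.out.one_lt.ne' (Nat.isUnit_iff.1 (h6 p (by rwa [← pow_two])))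

end Cfsg.Agent.TwoF.SpD.J4
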